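import Cfsg.Agent.H57.FC.Red

/-!
# S5764: reduction of the C2 cases to a rigid 5-colouring of the blocks, for any form (helper57)
-/

set_option autoImplicit false

namespace Cfsg.Agent.H57.FC

open Subgroup Cfsg.Agent.H198.FC Cfsg.Agent.H412.FC
open scoped Pointwise

universe u v w

section

variable {K : Type u} [Field K] {V : Type v} [AddCommGroup V] [Module K V]

/-- every invariant orthogonal decomposition has an invariant coarsening (with at least two members) with a rigid
colouring by 5 colours (for any form `b`; every new member contains an old one) -/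
theorem exists_col {b : Cl K V} {G : Subgroup (Equiv.Perm V)} (hG : G ≤ Sim b) (hfinG : Finite G)
    (hsol : Group.IsSolvable G) {κ : Type} [Fintype κ] (hκ : 2 ≤ Fintype.card κ) {W : κ → Submodule K V}
    (hS : Sys b G W) : ∃ (ι : Type) (_ : Fintype ι) (_ : Nontrivial ι) (U : ι → Submodule K V) (col : ι → Fin 5),
      Sys b G U ∧ (∀ i, ∃ j, W j ≤ U i) ∧ ∀ g ∈ G, ∀ π, Pm U g π → (∀ i, col (π i) = col i) → π = 1 := by
  classical
  -- the minimal system
  have hex : ∃ n, ∃ (ι : Type) (_ : Fintype ι) (U : ι → Submodule K V), Fintype.card ι = n ∧ 2 ≤ n ∧ Sys b G U ∧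
      ∀ i, ∃ j, W j ≤ U i := ⟨_, κ, _, W, rfl, hκ, hS, fun i => ⟨i, le_rfl⟩⟩
  obtain ⟨ι, hι, U, hcard, h2, hU, hWU⟩ := Nat.find_spec hex
  have hmin : ∀ (ι' : Type) [Fintype ι'] (U' : ι' → Submodule K V), 2 ≤ Fintype.card ι' → Sys b G U' →
      (∀ i, ∃ j, W j ≤ U' i) → Fintype.card ι ≤ Fintype.card ι' := by
    intro ι' _ U' h2' hU' hWU'
    rw [hcard]
    exact Nat.find_min' hex ⟨ι', _, U', rfl, h2', hU', hWU'⟩
  rw [← hcard] at h2
  clear hcard
  have hnt : Nontrivial ι := Fintype.one_lt_card_iff_nontrivial.1 h2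
  -- the action
  choose! ψ hψ using hU.pm
  have huniq : ∀ g ∈ G, ∀ π, Pm U g π → π = ψ g := fun g hg π hπ => hπ.unique hG hU.blk hU.ne hg (hψ g hg)
  let act : MulAction G ι :=
    { smul := fun g i => ψ g i
      one_smul := fun i => by
        change ψ (1 : Equiv.Perm V) i = i
        rw [← huniq _ (one_mem G) 1 (Pm.one U)]
        rfl
      mul_smul := fun g k i => by
        change ψ ((g : Equiv.Perm V) * k) i = ψ g (ψ k i)
        rw [← huniq _ (G.mul_mem g.2 k.2) (ψ g * ψ k) ((hψ g g.2).mul (hψ k k.2))]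
        rfl }
  have hsm : ∀ (g : G) (i : ι), g • i = ψ g i := fun _ _ => rfl
  -- invariant equivalence relations
  have htriv : ∀ r : Setoid ι, (∀ (g : G) (i j : ι), r i j → r (g • i) (g • j)) →
      (∃ i j, i ≠ j ∧ r i j) → ∀ i j, r i j := by
    intro r hr ⟨i, j, hij, hrij⟩
    by_contra hcon
    push Not at hcon
    obtain ⟨x, y, hxy⟩ := hcon
    have h3 := hU.quot hG r (fun g hg π hπ i j hij => by
      rw [huniq g hg π hπ]
      exact hr ⟨g, hg⟩ i j hij)
    have h4 : 2 ≤ Fintype.card (Quotient r) := by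
      have : Nontrivial (Quotient r) := ⟨⟨Quotient.mk r x, Quotient.mk r y, fun h => hxy (Quotient.exact h)⟩⟩
      exact Fintype.one_lt_card
    have h5 := hmin _ _ h4 h3 (fun q => by
      obtain ⟨i, rfl⟩ := Quotient.exists_rep q
      obtain ⟨j, hj⟩ := hWU i
      exact ⟨j, hj.trans (le_iSup (fun x : {x : ι // (Quotient.mk r x) = Quotient.mk r i} => U x) ⟨i, rfl⟩)⟩)
    have h6 : Fintype.card (Quotient r) < Fintype.card ι := by
      refine Fintype.card_lt_of_surjective_not_injective (Quotient.mk r) Quotient.exists_rep fun hinj => ?_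
      exact hij (hinj (Quotient.sound hrij))
    omega
  by_cases hfix : ∀ (g : G) (i : ι), g • i = i
  · refine ⟨ι, hι, hnt, U, fun _ => 0, hU, hWU, fun g hg π hπ _ => ?_⟩
    rw [huniq g hg π hπ]
    ext i
    exact hfix ⟨g, hg⟩ i
  · push Not at hfix
    obtain ⟨g0, i0, hg0⟩ := hfix
    have htrans : MulAction.IsPretransitive G ι := by
      refine ⟨fun x y => ?_⟩
      have := htriv (MulAction.orbitRel G ι) (fun g i j hij => by
        rw [MulAction.orbitRel_apply] at hij ⊢
        obtain ⟨k, rfl⟩ := hij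
        exact ⟨g * k * g⁻¹, by simp [mul_smul]⟩) ⟨_, _, hg0, ⟨g0, rfl⟩⟩ y x
      rw [MulAction.orbitRel_apply] at this
      exact this
    have hprim : MulAction.IsPreprimitive G ι := by
      refine ⟨fun {B} hB => ?_⟩
      by_cases hsub : B.Subsingleton
      · exact Or.inl hsub
      · right
        rw [Set.not_subsingleton_iff] at hsub
        obtain ⟨x, hx, y, hy, hxy⟩ := hsub
        have hBe := MulAction.IsBlock.smul_eq_smul_of_nonempty hB
        let r : Setoid ι :=
          { r := fun i j => ∃ g : G, i ∈ g • B ∧ j ∈ g • B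
            iseqv :=
              { refl := fun i => by
                  obtain ⟨g, hg⟩ := MulAction.exists_smul_eq G x i
                  exact ⟨g, ⟨x, hx, hg⟩, ⟨x, hx, hg⟩⟩
                symm := fun ⟨g, h1, h2⟩ => ⟨g, h2, h1⟩
                trans := fun {i j k} ⟨g, h1, h2⟩ ⟨g', h3, h4⟩ => by
                  have := hBe ⟨j, h2, h3⟩
                  exact ⟨g', this ▸ h1, h4⟩ } }
        have hall := htriv r (fun g i j ⟨k, h1, h2⟩ => ⟨g * k, by
            rw [mul_smul]
            exact ⟨Set.smul_mem_smul_set h1, Set.smul_mem_smul_set h2⟩⟩)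
          ⟨x, y, hxy, 1, by rw [one_smul]; exact ⟨hx, hy⟩⟩
        rw [Set.eq_univ_iff_forall]
        intro z
        obtain ⟨g, h1, h2⟩ := hall x z
        have h3 : g • B = (1 : G) • B := hBe ⟨x, h1, by rw [one_smul]; exact hx⟩
        rw [h3, one_smul] at h2
        exact h2
    obtain ⟨col, hcol⟩ := Cfsg.Agent.H578.PermCol.prim5 hprim
    refine ⟨ι, hι, hnt, U, col, hU, hWU, fun g hg π hπ h1 => ?_⟩
    rw [huniq g hg π hπ] at h1 ⊢
    ext i
    exact hcol ⟨g, hg⟩ (fun ω => h1 ω) i

end

end Cfsg.Agent.H57.FC
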