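import Cfsg.Agent.H412.FC.Lang
import Cfsg.Agent.S4374

/-!
# S5764: three vectors (helper57)

`exists_base3`: a solvable group `G` of semilinear similitudes stabilizing the non-degenerate subspace `U` but no non-zero
totally isotropic subspace of `U` has a base of size 3 on `U` (S4374).
-/

set_option autoImplicit false

namespace Cfsg.Agent.H57.FC

open Subgroup Cfsg.Agent.H198.FC Cfsg.Agent.H412.FC

universe u v

variable {K : Type u} [Field K] {V : Type v} [AddCommGroup V] [Module K V]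

theorem cl_symm (b : Cl K V) {v w : V} (h : b.B v w = 0) : b.B w v = 0 := by
  rcases b.typ with ⟨_, h1⟩ | ⟨h0, h1⟩
  · rw [h1, h, map_zero]
  · have h2 := h1 (v + w)
    rw [b.add_left, b.add_right, b.add_right, h1, h1, zero_add, add_zero, h, zero_add] at h2
    exact h2

theorem cl_zero_right (b : Cl K V) (w : V) : b.B w 0 = 0 := by
  have h := b.smul_right 0 w (0 : V)
  rwa [zero_smul, map_zero, zero_mul] at h

theorem cl_zero_left (b : Cl K V) (w : V) : b.B 0 w = 0 := by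
  have h := b.smul_left 0 (0 : V) w
  rwa [zero_smul, zero_mul] at h

theorem cl_neg_right (b : Cl K V) (v w : V) : b.B v (-w) = -b.B v w := by
  have h := b.smul_right (-1) v w
  rwa [neg_one_smul, map_neg, map_one, neg_one_mul] at h

theorem cl_sub_right (b : Cl K V) (v w w' : V) : b.B v (w - w') = b.B v w - b.B v w' := by
  rw [sub_eq_add_neg, b.add_right, cl_neg_right, ← sub_eq_add_neg]

/-- the orthogonal complement -/
def perp (b : Cl K V) (Z : Submodule K V) : Submodule K V where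
  carrier := {v | ∀ z ∈ Z, b.B z v = 0}
  zero_mem' z _ := cl_zero_right b z
  add_mem' {v w} hv hw z hz := by rw [b.add_right, hv z hz, hw z hz, add_zero]
  smul_mem' a v hv z hz := by rw [b.smul_right, hv z hz, mul_zero]

theorem mem_perp {b : Cl K V} {Z : Submodule K V} {v : V} : v ∈ perp b Z ↔ ∀ z ∈ Z, b.B z v = 0 := Iff.rfl

/-- the orthogonal projection on a non-degenerate subspace -/
theorem exists_proj [Finite K] [Module.Finite K V] (b : Cl K V) {Z : Submodule K V}
    (hZ : ∀ z ∈ Z, z ∈ perp b Z → z = 0) (v : V) : ∃ z ∈ Z, v - z ∈ perp b Z := by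
  classical
  have hfin : Finite V := Module.finite_of_finite K
  let Φ : V → Module.Dual K Z := fun w =>
    { toFun := fun t => b.B t w
      map_add' := fun s t => b.add_left _ _ _
      map_smul' := fun a t => b.smul_left _ _ _ }
  have hinj : Function.Injective (fun z : Z => Φ z) := by
    intro x y hxy
    have h1 : (x : V) - y = 0 := by
      refine hZ _ (Z.sub_mem x.2 y.2) fun t ht => ?_
      have := LinearMap.congr_fun hxy ⟨t, ht⟩
      have h2 : b.B t x = b.B t y := this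
      rw [cl_sub_right, h2, sub_self]
    exact Subtype.ext (sub_eq_zero.1 h1)
  have e : Z ≃ Module.Dual K Z := (Module.finBasis K Z).toDualEquiv.toEquiv
  have hfin2 : Finite Z := inferInstance
  have hsurj := (Function.Injective.surjective_of_finite (α := Z) (β := Module.Dual K Z) e hinj)
  obtain ⟨z, hz⟩ := hsurj (Φ v)
  refine ⟨z, z.2, fun t ht => ?_⟩
  have h3 : b.B t z = b.B t v := LinearMap.congr_fun hz ⟨t, ht⟩
  rw [cl_sub_right, h3, sub_self]

/-- the action on a subspace -/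
def actU (G : Subgroup (Equiv.Perm V)) (U : Submodule K V) (hst : ∀ g ∈ G, ∀ v ∈ U, g v ∈ U) :
    G →* Equiv.Perm U where
  toFun g :=
    { toFun := fun v => ⟨(g : Equiv.Perm V) v, hst g g.2 v v.2⟩
      invFun := fun v => ⟨(g⁻¹ : G).1 v, hst _ (g⁻¹ : G).2 v v.2⟩
      left_inv := fun v => Subtype.ext (by simp)
      right_inv := fun v => Subtype.ext (by simp) }
  map_one' := by
    ext v
    rfl
  map_mul' g h := by
    ext v
    rfl

/-- **Three vectors.** -/
theorem exists_base3 [Finite K] [Module.Finite K V] {b : Cl K V} {G : Subgroup (Equiv.Perm V)} (hG : G ≤ Sim b)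
    (hhm : ∀ a, hm K V a ∈ G) (hsol : Group.IsSolvable G) {U : Submodule K V}
    (hst : ∀ g ∈ G, ∀ v ∈ U, g v ∈ U)
    (hTI : ∀ W ≤ U, b.TI W → (∀ g ∈ G, ∀ w ∈ W, g w ∈ W) → W = ⊥) :
    ∃ β : Fin 3 → V, (∀ j, β j ∈ U) ∧ ∀ g ∈ G, (∀ j, g (β j) = β j) → ∀ v ∈ U, g v = v := by
  classical
  have hfin : Finite V := Module.finite_of_finite K
  have hfinU : Finite U := inferInstance
  let φ := actU G U hst
  have hφ : ∀ (x : φ.range) (v w : U), x.1 (v + w) = x.1 v + x.1 w := by
    rintro ⟨_, ⟨⟨g, hg⟩, rfl⟩⟩ v w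
    obtain ⟨σ, μ, h⟩ := hG hg
    exact Subtype.ext (h.add _ _)
  let _ : DistribMulAction φ.range U :=
    { smul := fun x v => x.1 v
      one_smul := fun v => rfl
      mul_smul := fun x y v => rfl
      smul_zero := fun x => by
        have h := hφ x 0 0
        rw [add_zero] at h
        exact left_eq_add.1 h
      smul_add := hφ }
  have hsolA : Group.IsSolvable φ.range :=
    Group.isSolvable_of_surjective (f := φ.rangeRestrict) φ.rangeRestrict_surjective
  have hfaith : FaithfulSMul φ.range U := by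
    refine ⟨fun {x y} h => ?_⟩
    apply Subtype.ext
    ext v
    exact congrArg Subtype.val (h v)
  obtain ⟨v₁, v₂, v₃, h⟩ := Cfsg.Agent.S4374.result (A := φ.range) (V := U) hsolA (by
    intro Z hZ
    have hZg : ∀ g ∈ G, ∀ v : U, v ∈ Z → ∀ h : g v ∈ U, (⟨g v, h⟩ : U) ∈ Z := by
      intro g hg v hv h
      exact hZ ⟨φ ⟨g, hg⟩, ⟨⟨g, hg⟩, rfl⟩⟩ v hv
    -- the corresponding subspace
    let Z' : Submodule K V :=
      { carrier := {v | ∃ h : v ∈ U, (⟨v, h⟩ : U) ∈ Z}
        zero_mem' := ⟨U.zero_mem, Z.zero_mem⟩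
        add_mem' := by
          rintro v w ⟨h1, h2⟩ ⟨h3, h4⟩
          exact ⟨U.add_mem h1 h3, Z.add_mem h2 h4⟩
        smul_mem' := by
          rintro a v ⟨h1, h2⟩
          by_cases ha : a = 0
          · subst ha
            rw [zero_smul]
            exact ⟨U.zero_mem, Z.zero_mem⟩
          · refine ⟨U.smul_mem _ h1, ?_⟩
            exact hZg (hm K V (Units.mk0 a ha)) (hhm _) ⟨v, h1⟩ h2 (U.smul_mem _ h1) }
    have hZ'U : Z' ≤ U := fun v hv => hv.1
    have hZ'g : ∀ g ∈ G, ∀ v ∈ Z', g v ∈ Z' := by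
      rintro g hg v ⟨h1, h2⟩
      exact ⟨hst g hg v h1, hZg g hg ⟨v, h1⟩ h2 _⟩
    have hperp : ∀ g ∈ G, ∀ v ∈ perp b Z', g v ∈ perp b Z' := by
      intro g hg v hv z hz
      obtain ⟨σ, μ, hs⟩ := hG hg
      have h1 := hs.form (g⁻¹ z) v
      have h2 : g (g⁻¹ z) = z := by simp
      rw [h2, hv _ (hZ'g _ (inv_mem hg) _ hz), map_zero, mul_zero] at h1
      exact h1
    have hT : Z' ⊓ perp b Z' = ⊥ := by
      refine hTI _ (inf_le_left.trans hZ'U) (fun v hv w hw => hw.2 v hv.1) fun g hg w hw => ?_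
      exact ⟨hZ'g g hg w hw.1, hperp g hg w hw.2⟩
    refine ⟨((perp b Z').toAddSubgroup).comap U.subtype.toAddMonoidHom, ?_, ?_, ?_⟩
    · rintro ⟨_, ⟨⟨g, hg⟩, rfl⟩⟩ w hw
      exact hperp g hg w.1 hw
    · rw [eq_bot_iff]
      rintro ⟨v, hv⟩ ⟨h1, h2⟩
      have h3 : v ∈ Z' ⊓ perp b Z' := ⟨⟨hv, h1⟩, h2⟩
      rw [hT] at h3
      exact Subtype.ext ((Submodule.mem_bot K).1 h3)
    · rw [eq_top_iff]
      rintro ⟨v, hv⟩ _
      obtain ⟨z, hz, hvz⟩ := exists_proj b (Z := Z') (fun z h1 h2 => by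
        have h3 : z ∈ Z' ⊓ perp b Z' := ⟨h1, h2⟩
        rw [hT] at h3
        exact (Submodule.mem_bot K).1 h3) v
      obtain ⟨h1, h2⟩ := hz
      have h3 : (⟨v, hv⟩ : U) = ⟨z, h1⟩ + ⟨v - z, U.sub_mem hv h1⟩ := Subtype.ext (by simp)
      rw [h3]
      exact AddSubgroup.add_mem_sup h2 hvz)
  refine ⟨fun j => ((![v₁, v₂, v₃] : Fin 3 → U) j : V), fun j => Subtype.prop _, fun g hg hj v hv => ?_⟩
  have h1 := h ⟨φ ⟨g, hg⟩, ⟨⟨g, hg⟩, rfl⟩⟩ (Subtype.ext (hj 0)) (Subtype.ext (hj 1)) (Subtype.ext (hj 2))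
  have h2 := congrArg Subtype.val h1
  have h3 := DFunLike.congr_fun h2 (⟨v, hv⟩ : U)
  exact congrArg Subtype.val h3

end Cfsg.Agent.H57.FC
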