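import Mathlib

/-!
# S5764, symplectic C1 / C2: quadruples of vectors (helper57)

`typ w t`: the `t`-th pair of the quadruple `w` is proportional.  `quad_type`: quadruples of each of the six types with
span containing three given vectors; `quad_special`: a rigid quadruple, not of the first five types.
-/

set_option autoImplicit false

namespace Cfsg.Agent.H57.FC

universe u v

variable {K : Type u} [Field K] {V : Type v} [AddCommGroup V] [Module K V]

/-- the six pairs -/
def pr : Fin 6 → Fin 4 × Fin 4 := ![(0, 1), (0, 2), (0, 3), (1, 2), (1, 3), (2, 3)]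

variable (K) in
/-- the `t`-th pair is proportional -/
def typ (w : Fin 4 → V) (t : Fin 6) : Prop := ∃ s : K, w (pr t).2 = s • w (pr t).1

variable (K) in
/-- independent pairs -/
def Ind (x y : V) : Prop := ∀ s t : K, s • x + t • y = 0 → s = 0 ∧ t = 0

theorem Ind.ne_left {x y : V} (h : Ind K x y) : x ≠ 0 := by
  rintro rfl
  have := (h 1 0 (by simp)).1
  exact one_ne_zero this

theorem Ind.ne_right {x y : V} (h : Ind K x y) : y ≠ 0 := by
  rintro rfl
  have := (h 0 1 (by simp)).2
  exact one_ne_zero this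

theorem Ind.not_smul {x y : V} (h : Ind K x y) : ∀ s : K, y ≠ s • x := by
  rintro s rfl
  have := (h s (-1) (by simp)).2
  exact one_ne_zero (neg_eq_zero.1 this)

theorem Ind.not_smul' {x y : V} (h : Ind K x y) : ∀ s : K, x ≠ s • y := by
  rintro s rfl
  have := (h (-1) s (by simp)).1
  exact one_ne_zero (neg_eq_zero.1 this)

/-- two vectors in a plane -/
theorem exists_plane {U : Submodule K V} (h2 : ∃ x ∈ U, ∃ y ∈ U, Ind K x y) {x y : V} (hx : x ∈ U) (hy : y ∈ U) :
    ∃ e ∈ U, ∃ f ∈ U, Ind K e f ∧ x ∈ Submodule.span K {e, f} ∧ y ∈ Submodule.span K {e, f} := by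
  classical
  have one : ∀ z ∈ U, z ≠ 0 → ∃ f ∈ U, Ind K z f := by
    intro z hz hz0
    obtain ⟨p, hp, q, hq, hpq⟩ := h2
    by_contra hcon
    push Not at hcon
    have key : ∀ f ∈ U, ∃ s : K, f = s • z := by
      intro f hf
      have h := hcon f hf
      simp only [Ind] at h
      push Not at h
      obtain ⟨s, t, hst, h⟩ := h
      by_cases ht : t = 0
      · subst ht
        rw [zero_smul, add_zero] at hst
        rcases smul_eq_zero.1 hst with h0 | h0
        · exact absurd rfl (h h0)
        · exact absurd h0 hz0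
      · refine ⟨-(t⁻¹ * s), ?_⟩
        have : t • f = -(s • z) := by rw [eq_neg_iff_add_eq_zero, add_comm]; exact hst
        rw [neg_smul, mul_smul, ← smul_neg, ← this, smul_smul, inv_mul_cancel₀ ht, one_smul]
    obtain ⟨s, hs⟩ := key p hp
    obtain ⟨t, ht⟩ := key q hq
    have h3 := hpq t (-s) (by rw [hs, ht, smul_smul, smul_smul, mul_comm t s, ← add_smul]; simp)
    apply hpq.ne_left
    rw [hs, neg_eq_zero.1 h3.2, zero_smul]
  by_cases hxy : Ind K x y
  · exact ⟨x, hx, y, hy, hxy, Submodule.subset_span (by simp), Submodule.subset_span (by simp)⟩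
  simp only [Ind] at hxy
  push Not at hxy
  obtain ⟨s, t, hst, h⟩ := hxy
  by_cases hx0 : x = 0
  · by_cases hy0 : y = 0
    · obtain ⟨p, hp, q, hq, hpq⟩ := h2
      exact ⟨p, hp, q, hq, hpq, by rw [hx0]; exact Submodule.zero_mem _, by rw [hy0]; exact Submodule.zero_mem _⟩
    · obtain ⟨f, hf, hyf⟩ := one y hy hy0
      exact ⟨y, hy, f, hf, hyf, by rw [hx0]; exact Submodule.zero_mem _, Submodule.subset_span (by simp)⟩
  · obtain ⟨f, hf, hxf⟩ := one x hx hx0
    refine ⟨x, hx, f, hf, hxf, Submodule.subset_span (by simp), ?_⟩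
    have hx' : x ∈ Submodule.span K {x, f} := Submodule.subset_span (by simp)
    by_cases ht : t = 0
    · subst ht
      rw [zero_smul, add_zero] at hst
      rcases smul_eq_zero.1 hst with h0 | h0
      · exact absurd rfl (h h0)
      · exact absurd h0 hx0
    · have h1 : t • y = -(s • x) := by rw [eq_neg_iff_add_eq_zero, add_comm]; exact hst
      have h2 : y = t⁻¹ • -(s • x) := by rw [← h1, smul_smul, inv_mul_cancel₀ ht, one_smul]
      rw [h2]
      exact Submodule.smul_mem _ _ (Submodule.neg_mem _ (Submodule.smul_mem _ _ hx'))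

/-- three vectors are independent or in a plane -/
theorem three_or_plane {U : Submodule K V} (h2 : ∃ x ∈ U, ∃ y ∈ U, Ind K x y) {β : Fin 3 → V} (hβ : ∀ j, β j ∈ U) :
    (∀ r s t : K, r • β 0 + s • β 1 + t • β 2 = 0 → r = 0 ∧ s = 0 ∧ t = 0) ∨
    ∃ e ∈ U, ∃ f ∈ U, Ind K e f ∧ ∀ j, β j ∈ Submodule.span K {e, f} := by
  by_cases h : ∀ r s t : K, r • β 0 + s • β 1 + t • β 2 = 0 → r = 0 ∧ s = 0 ∧ t = 0
  · exact Or.inl h
  right
  push Not at h
  obtain ⟨r, s, t, hrst, h⟩ := h
  by_cases hr : r = 0
  · by_cases hs : s = 0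
    · have ht := h hr hs
      obtain ⟨e, he, f, hf, hef, h1, h2⟩ := exists_plane h2 (hβ 0) (hβ 1)
      refine ⟨e, he, f, hf, hef, fun j => ?_⟩
      fin_cases j
      · exact h1
      · exact h2
      · subst hr hs
        rw [zero_smul, zero_smul, zero_add, zero_add] at hrst
        have : β 2 = 0 := (smul_eq_zero.1 hrst).resolve_left ht
        change β 2 ∈ _
        rw [this]
        exact Submodule.zero_mem _
    · obtain ⟨e, he, f, hf, hef, h1, h2⟩ := exists_plane h2 (hβ 0) (hβ 2)
      refine ⟨e, he, f, hf, hef, fun j => ?_⟩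
      fin_cases j
      · exact h1
      · have e1 : s • β 1 = -(r • β 0 + t • β 2) := by
          rw [eq_neg_iff_add_eq_zero, ← hrst]; abel
        have e2 : β 1 = s⁻¹ • -(r • β 0 + t • β 2) := by rw [← e1, smul_smul, inv_mul_cancel₀ hs, one_smul]
        change β 1 ∈ _
        rw [e2]
        exact Submodule.smul_mem _ _ (Submodule.neg_mem _ (Submodule.add_mem _ (Submodule.smul_mem _ _ h1)
          (Submodule.smul_mem _ _ h2)))
      · exact h2
  · obtain ⟨e, he, f, hf, hef, h1, h2⟩ := exists_plane h2 (hβ 1) (hβ 2)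
    refine ⟨e, he, f, hf, hef, fun j => ?_⟩
    fin_cases j
    · have e1 : r • β 0 = -(s • β 1 + t • β 2) := by
        rw [eq_neg_iff_add_eq_zero, ← hrst]; abel
      have e2 : β 0 = r⁻¹ • -(s • β 1 + t • β 2) := by rw [← e1, smul_smul, inv_mul_cancel₀ hr, one_smul]
      change β 0 ∈ _
      rw [e2]
      exact Submodule.smul_mem _ _ (Submodule.neg_mem _ (Submodule.add_mem _ (Submodule.smul_mem _ _ h1)
        (Submodule.smul_mem _ _ h2)))
    · exact h1
    · exact h2

/-- three pairwise independent vectors -/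
theorem exists_triple {U : Submodule K V} (h2 : ∃ x ∈ U, ∃ y ∈ U, Ind K x y) {β : Fin 3 → V} (hβ : ∀ j, β j ∈ U) :
    ∃ u : Fin 3 → V, (∀ j, u j ∈ U ∧ u j ≠ 0) ∧ (∀ i j, i ≠ j → ∀ s : K, u j ≠ s • u i) ∧
      ∀ j, β j ∈ Submodule.span K (Set.range u) := by
  rcases three_or_plane h2 hβ with h | ⟨e, he, f, hf, hef, h⟩
  · have h01 : Ind K (β 0) (β 1) := fun s t hst => by
      have := h s t 0 (by rw [hst, zero_smul, zero_add])
      exact ⟨this.1, this.2.1⟩
    have h02 : Ind K (β 0) (β 2) := fun s t hst => by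
      have := h s 0 t (by rw [zero_smul, add_zero, hst])
      exact ⟨this.1, this.2.2⟩
    have h12 : Ind K (β 1) (β 2) := fun s t hst => by
      have := h 0 s t (by rw [zero_smul, zero_add, hst])
      exact ⟨this.2.1, this.2.2⟩
    refine ⟨β, fun j => ⟨hβ j, ?_⟩, fun i j hij => ?_, fun j => Submodule.subset_span ⟨j, rfl⟩⟩
    · fin_cases j
      exacts [h01.ne_left, h01.ne_right, h02.ne_right]
    · fin_cases i <;> fin_cases j <;> first | exact absurd rfl hij | skip
      exacts [h01.not_smul, h02.not_smul, h01.not_smul', h12.not_smul, h02.not_smul', h12.not_smul']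
  · have h1 : Ind K e (e + f) := fun s t hst => by
      have := hef (s + t) t (by rw [add_smul, add_assoc, ← smul_add]; exact hst)
      refine ⟨?_, this.2⟩
      rw [this.2, add_zero] at this
      exact this.1
    have h3 : Ind K f (e + f) := fun s t hst => by
      have := hef t (s + t) (by rw [← hst, add_smul, smul_add]; abel)
      refine ⟨?_, this.1⟩
      rw [this.1, add_zero] at this
      exact this.2
    refine ⟨![e, f, e + f], fun j => ?_, fun i j hij => ?_, fun j => ?_⟩
    · fin_cases j
      exacts [⟨he, hef.ne_left⟩, ⟨hf, hef.ne_right⟩, ⟨U.add_mem he hf, h1.ne_right⟩]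
    · fin_cases i <;> fin_cases j <;> first | exact absurd rfl hij | skip
      exacts [hef.not_smul, h1.not_smul, hef.not_smul', h3.not_smul, h1.not_smul', h3.not_smul']
    · refine Submodule.span_mono ?_ (h j)
      rintro z (rfl | rfl)
      · exact ⟨0, rfl⟩
      · exact ⟨1, rfl⟩

/-- the distribution of three vectors on four places -/
def ft : Fin 6 → Fin 4 → Fin 3 :=
  ![![0, 0, 1, 2], ![0, 1, 0, 2], ![0, 1, 2, 0], ![1, 0, 0, 2], ![1, 0, 2, 0], ![1, 2, 0, 0]]

theorem ft_pr : ∀ t s : Fin 6, ft t (pr s).1 = ft t (pr s).2 ↔ s = t := by decide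

theorem ft_surj : ∀ (t : Fin 6) (j : Fin 3), ∃ l, ft t l = j := by decide

/-- **quadruples of a given type** -/
theorem quad_type {U : Submodule K V} (h2 : ∃ x ∈ U, ∃ y ∈ U, Ind K x y) {β : Fin 3 → V} (hβ : ∀ j, β j ∈ U)
    (t : Fin 6) : ∃ w : Fin 4 → V, (∀ l, w l ∈ U ∧ w l ≠ 0) ∧ (∀ s, typ K w s ↔ s = t) ∧
      ∀ j, β j ∈ Submodule.span K (Set.range w) := by
  obtain ⟨u, hu, hu2, hu3⟩ := exists_triple h2 hβ
  refine ⟨fun l => u (ft t l), fun l => hu _, fun s => ?_, fun j => ?_⟩
  · rw [← ft_pr t s]
    constructor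
    · rintro ⟨r, hr⟩
      by_contra hne
      exact hu2 _ _ hne r hr
    · intro he
      refine ⟨1, ?_⟩
      change u (ft t (pr s).2) = (1 : K) • u (ft t (pr s).1)
      rw [he, one_smul]
  · refine Submodule.span_mono ?_ (hu3 j)
    rintro _ ⟨i, rfl⟩
    obtain ⟨l, hl⟩ := ft_surj t i
    exact ⟨l, congrArg u hl⟩

/-- a generator of the multiplicative group of a finite field -/
theorem exists_gen [Finite K] : ∃ γ : K, γ ≠ 0 ∧ (∀ σ : K ≃+* K, σ γ = γ → σ = RingEquiv.refl K) ∧
    (γ = 1 → ∀ a : K, a ≠ 0 → a = 1) := by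
  obtain ⟨γ, hγ⟩ := IsCyclic.exists_generator (α := Kˣ)
  refine ⟨γ, γ.ne_zero, fun σ hσ => ?_, fun h a ha => ?_⟩
  · ext a
    by_cases ha : a = 0
    · rw [ha, map_zero, map_zero]
    · obtain ⟨n, hn⟩ := Subgroup.mem_zpowers_iff.1 (hγ (Units.mk0 a ha))
      have h1 : a = (γ : K) ^ n := by
        rw [← Units.val_zpow_eq_zpow_val, hn]; rfl
      rw [h1, map_zpow₀, hσ]
      rfl
  · obtain ⟨n, hn⟩ := Subgroup.mem_zpowers_iff.1 (hγ (Units.mk0 a ha))
    have h1 : γ = 1 := Units.ext h
    rw [h1, one_zpow] at hn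
    exact (congrArg Units.val hn).symm

/-- **a rigid quadruple** -/
theorem quad_special [Finite K] {U : Submodule K V} (h2 : ∃ x ∈ U, ∃ y ∈ U, Ind K x y) {β : Fin 3 → V}
    (hβ : ∀ j, β j ∈ U) : ∃ w : Fin 4 → V, (∀ l, w l ∈ U ∧ w l ≠ 0) ∧
      (∀ t : Fin 5, ¬ ∀ s, typ K w s ↔ s = t.castSucc) ∧
      ∀ (g : Equiv.Perm V) (σ : K ≃+* K), (∀ x y, g (x + y) = g x + g y) → (∀ (a : K) x, g (a • x) = σ a • g x) →
        ∀ c : Fin 4 → K, (∀ l, g (w l) = c l • w l) → ∃ c0 : K, c0 ≠ 0 ∧ ∀ j, g (β j) = c0 • β j := by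
  obtain ⟨γ, hγ0, hγ, hγ1⟩ := exists_gen (K := K)
  by_cases h1 : γ = 1
  · -- `|K| = 2`
    obtain ⟨w, hw, hw2, hw3⟩ := quad_type h2 hβ 5
    refine ⟨w, hw, fun t ht => ?_, fun g σ hg hs c hc => ⟨1, one_ne_zero, fun j => ?_⟩⟩
    · have h5 := (ht 5).1 ((hw2 5).2 rfl)
      have := congrArg Fin.val h5
      have h6 := t.2
      simp only [Fin.val_castSucc] at this
      have h7 : ((5 : Fin 6) : ℕ) = 5 := rfl
      omega
    · have hg0 : g 0 = 0 := by
        have h := hg 0 0
        rw [add_zero] at h
        exact (left_eq_add.1 h)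
      have hc1 : ∀ l, g (w l) = w l := by
        intro l
        have hcl : c l ≠ 0 := by
          intro h0
          apply (hw l).2
          apply g.injective
          rw [hc l, h0, zero_smul, hg0]
        rw [hc l, hγ1 h1 _ hcl, one_smul]
      have hσ : ∀ a : K, σ a = a := by
        intro a
        by_cases ha : a = 0
        · rw [ha, map_zero]
        · rw [hγ1 h1 a ha, map_one]
      rw [one_smul]
      have := hw3 j
      generalize β j = z at this ⊢
      induction this using Submodule.span_induction with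
      | mem x hx =>
        obtain ⟨l, rfl⟩ := hx
        exact hc1 l
      | zero => exact hg0
      | add x y _ _ hx hy => rw [hg, hx, hy]
      | smul a x _ hx => rw [hs, hx, hσ]
  · rcases three_or_plane h2 hβ with h | ⟨e, he, f, hf, hef, h⟩
    · -- independent
      have key : ∀ {r s t r' s' t' : K}, r • β 0 + s • β 1 + t • β 2 = r' • β 0 + s' • β 1 + t' • β 2 →
          r = r' ∧ s = s' ∧ t = t' := by
        intro r s t r' s' t' hh
        have := h (r - r') (s - s') (t - t') (by
          rw [sub_smul, sub_smul, sub_smul]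
          rw [← sub_eq_zero] at hh
          rw [← hh]
          abel)
        exact ⟨sub_eq_zero.1 this.1, sub_eq_zero.1 this.2.1, sub_eq_zero.1 this.2.2⟩
      have hz : ∀ {r s t : K}, r • β 0 + s • β 1 + t • β 2 = 0 → r = 0 ∧ s = 0 ∧ t = 0 := fun hh => h _ _ _ hh
      refine ⟨![β 0, β 1, β 2, β 0 + β 1 + β 2], fun l => ?_, fun t ht => ?_, fun g σ hg hs c hc => ?_⟩
      · fin_cases l
        · refine ⟨hβ 0, fun h0 => ?_⟩
          have h0' : β 0 = 0 := h0
          exact one_ne_zero (h 1 0 0 (by rw [h0']; simp)).1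
        · refine ⟨hβ 1, fun h0 => ?_⟩
          have h0' : β 1 = 0 := h0
          exact one_ne_zero (h 0 1 0 (by rw [h0']; simp)).2.1
        · refine ⟨hβ 2, fun h0 => ?_⟩
          have h0' : β 2 = 0 := h0
          exact one_ne_zero (h 0 0 1 (by rw [h0']; simp)).2.2
        · refine ⟨U.add_mem (U.add_mem (hβ 0) (hβ 1)) (hβ 2), fun h0 => ?_⟩
          have h0' : β 0 + β 1 + β 2 = 0 := h0
          exact one_ne_zero (h 1 1 1 (by rw [one_smul, one_smul, one_smul]; exact h0')).1
      · obtain ⟨r, hr⟩ := (ht t.castSucc).2 rfl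
        have hcase : ∀ s : Fin 6, ¬ ∃ r : K, (![β 0, β 1, β 2, β 0 + β 1 + β 2] : Fin 4 → V) (pr s).2 =
            r • (![β 0, β 1, β 2, β 0 + β 1 + β 2] : Fin 4 → V) (pr s).1 := by
          intro s ⟨r, hr⟩
          fin_cases s
          · have e : β 1 = r • β 0 := hr
            have := key (r := 0) (s := 1) (t := 0) (r' := r) (s' := 0) (t' := 0) (by simpa using e)
            exact one_ne_zero this.2.1
          · have e : β 2 = r • β 0 := hr
            have := key (r := 0) (s := 0) (t := 1) (r' := r) (s' := 0) (t' := 0) (by simpa using e)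
            exact one_ne_zero this.2.2
          · have e : β 0 + β 1 + β 2 = r • β 0 := hr
            have := key (r := 1) (s := 1) (t := 1) (r' := r) (s' := 0) (t' := 0) (by simpa using e)
            exact one_ne_zero this.2.2
          · have e : β 2 = r • β 1 := hr
            have := key (r := 0) (s := 0) (t := 1) (r' := 0) (s' := r) (t' := 0) (by simpa using e)
            exact one_ne_zero this.2.2
          · have e : β 0 + β 1 + β 2 = r • β 1 := hr
            have := key (r := 1) (s := 1) (t := 1) (r' := 0) (s' := r) (t' := 0) (by simpa using e)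
            exact one_ne_zero this.2.2
          · have e : β 0 + β 1 + β 2 = r • β 2 := hr
            have := key (r := 1) (s := 1) (t := 1) (r' := 0) (s' := 0) (t' := r) (by simpa using e)
            exact one_ne_zero this.1
        exact hcase _ ⟨r, hr⟩
      · have e0 : g (β 0) = c 0 • β 0 := hc 0
        have e1 : g (β 1) = c 1 • β 1 := hc 1
        have e2 : g (β 2) = c 2 • β 2 := hc 2
        have e3 : g (β 0 + β 1 + β 2) = c 3 • (β 0 + β 1 + β 2) := hc 3
        rw [hg, hg, e0, e1, e2, smul_add, smul_add] at e3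
        obtain ⟨k1, k2, k3⟩ := key e3
        have hg0 : g 0 = 0 := by
          have h := hg 0 0
          rw [add_zero] at h
          exact (left_eq_add.1 h)
        refine ⟨c 3, fun h0 => ?_, fun j => ?_⟩
        · have h00 : β 0 = 0 := by
            apply g.injective
            rw [e0, k1, h0, zero_smul, hg0]
          exact one_ne_zero (h 1 0 0 (by rw [h00]; simp)).1
        · fin_cases j
          · change g (β 0) = c 3 • β 0
            rw [e0, k1]
          · change g (β 1) = c 3 • β 1
            rw [e1, k2]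
          · change g (β 2) = c 3 • β 2
            rw [e2, k3]
    · -- in a plane
      have key : ∀ {r s r' s' : K}, r • e + s • f = r' • e + s' • f → r = r' ∧ s = s' := by
        intro r s r' s' hh
        have := hef (r - r') (s - s') (by
          rw [sub_smul, sub_smul]
          rw [← sub_eq_zero] at hh
          rw [← hh]
          abel)
        exact ⟨sub_eq_zero.1 this.1, sub_eq_zero.1 this.2⟩
      refine ⟨![e, f, e + f, e + γ • f], fun l => ?_, fun t ht => ?_, fun g σ hg hs c hc => ?_⟩
      · fin_cases l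
        · exact ⟨he, hef.ne_left⟩
        · exact ⟨hf, hef.ne_right⟩
        · refine ⟨U.add_mem he hf, fun h0 => ?_⟩
          have h0' : e + f = 0 := h0
          exact one_ne_zero (hef 1 1 (by rw [one_smul, one_smul]; exact h0')).1
        · refine ⟨U.add_mem he (U.smul_mem _ hf), fun h0 => ?_⟩
          have h0' : e + γ • f = 0 := h0
          exact one_ne_zero (hef 1 γ (by rw [one_smul]; exact h0')).1
      · obtain ⟨r, hr⟩ := (ht t.castSucc).2 rfl
        have hcase : ∀ s : Fin 6, ¬ ∃ r : K, (![e, f, e + f, e + γ • f] : Fin 4 → V) (pr s).2 =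
            r • (![e, f, e + f, e + γ • f] : Fin 4 → V) (pr s).1 := by
          intro s ⟨r, hr⟩
          fin_cases s
          · exact hef.not_smul r hr
          · have e1 : e + f = r • e := hr
            have := key (r := 1) (s := 1) (r' := r) (s' := 0) (by simpa using e1)
            exact one_ne_zero this.2
          · have e1 : e + γ • f = r • e := hr
            have := key (r := 1) (s := γ) (r' := r) (s' := 0) (by simpa using e1)
            exact hγ0 this.2
          · have e1 : e + f = r • f := hr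
            have := key (r := 1) (s := 1) (r' := 0) (s' := r) (by simpa using e1)
            exact one_ne_zero this.1
          · have e1 : e + γ • f = r • f := hr
            have := key (r := 1) (s := γ) (r' := 0) (s' := r) (by simpa using e1)
            exact one_ne_zero this.1
          · have e1 : e + γ • f = r • (e + f) := hr
            have := key (r := 1) (s := γ) (r' := r) (s' := r) (by rw [one_smul, ← smul_add]; exact e1)
            exact h1 (this.2.trans this.1.symm)
        exact hcase _ ⟨r, hr⟩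
      · have e0 : g e = c 0 • e := hc 0
        have e1 : g f = c 1 • f := hc 1
        have e2 : g (e + f) = c 2 • (e + f) := hc 2
        have e3 : g (e + γ • f) = c 3 • (e + γ • f) := hc 3
        rw [hg, e0, e1, smul_add] at e2
        rw [hg, hs, e0, e1, smul_add, smul_smul, smul_smul] at e3
        obtain ⟨k1, k2⟩ := key e2
        obtain ⟨k3, k4⟩ := key e3
        have hg0 : g 0 = 0 := by
          have h := hg 0 0
          rw [add_zero] at h
          exact (left_eq_add.1 h)
        have hc0 : c 0 ≠ 0 := by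
          intro h0
          apply hef.ne_left
          apply g.injective
          rw [e0, h0, zero_smul, hg0]
        have hσ : σ = RingEquiv.refl K := by
          apply hγ
          have : σ γ * c 0 = γ * c 0 := by
            rw [k2.trans k1.symm] at k4
            rw [k4, ← k3, mul_comm]
          exact mul_right_cancel₀ hc0 this
        refine ⟨c 0, hc0, fun j => ?_⟩
        obtain ⟨r, s, hrs⟩ := Submodule.mem_span_pair.1 (h j)
        rw [← hrs, hg, hs, hs, e0, e1, hσ, smul_add, smul_smul, smul_smul, smul_smul, smul_smul, k2.trans k1.symm]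
        congr 1
        · rw [mul_comm]; rfl
        · rw [mul_comm]; rfl

/-- the type is invariant -/
theorem typ_congr {w w' : Fin 4 → V} {g : Equiv.Perm V} {σ : K ≃+* K} (hs : ∀ (a : K) x, g (a • x) = σ a • g x)
    {c : Fin 4 → K} (hc0 : ∀ l, c l ≠ 0) (hc : ∀ l, g (w l) = c l • w' l) (t : Fin 6) : typ K w t ↔ typ K w' t := by
  constructor
  · rintro ⟨s, h⟩
    have e := congrArg g h
    rw [hs, hc, hc, smul_smul] at e
    refine ⟨(c (pr t).2)⁻¹ * (σ s * c (pr t).1), ?_⟩
    rw [mul_smul, ← e, smul_smul, inv_mul_cancel₀ (hc0 _), one_smul]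
  · rintro ⟨s, h⟩
    have e1 : w' (pr t).1 = (c (pr t).1)⁻¹ • g (w (pr t).1) := by
      rw [hc, smul_smul, inv_mul_cancel₀ (hc0 _), one_smul]
    refine ⟨σ.symm (c (pr t).2 * (s * (c (pr t).1)⁻¹)), ?_⟩
    apply g.injective
    rw [hs, RingEquiv.apply_symm_apply, hc (pr t).2, h, e1, smul_smul, smul_smul]
    congr 1
    ring

end Cfsg.Agent.H57.FC
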