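import Cfsg.Agent.H57.FC.Trv
import Cfsg.Agent.H57.FC.Quad
import Cfsg.Agent.H57.FC.Base

/-!
# S5764, symplectic C1 / C2: the main argument (helper57)

`core`: `G` solvable group of semilinear similitudes of a symplectic space containing the homotheties, without invariant
totally isotropic subspaces, permuting the members of an orthogonal decomposition, with a rigid colouring of the members
by 5 colours: four transvections show `FiveBV b G`.
-/

set_option autoImplicit false

namespace Cfsg.Agent.H57.FC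

open Subgroup Cfsg.Agent.H198.FC Cfsg.Agent.H412.FC

universe u v w

variable {K : Type u} [Field K] {V : Type v} [AddCommGroup V] [Module K V] {ι : Type w}

/-- the functional `B(·, w)` -/
def fnl (b : Cl K V) (w : V) : Module.Dual K V where
  toFun v := b.B v w
  map_add' _ _ := b.add_left _ _ _
  map_smul' _ _ := b.smul_left _ _ _

/-- the transvection with centre `w` -/
def tv {b : Cl K V} (hb : b.IsSp) (w : V) : V ≃ₗ[K] V :=
  LinearEquiv.transvection (f := fnl b w) (v := w) (hb.2 w)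

theorem tv_apply {b : Cl K V} (hb : b.IsSp) (w v : V) : tv hb w v = v + b.B v w • w := rfl

theorem det_tv {b : Cl K V} (hb : b.IsSp) (w : V) : LinearMap.det ((tv hb w : V ≃ₗ[K] V) : V →ₗ[K] V) = 1 := by
  have h := congrArg Units.val (LinearEquiv.transvection.det_eq_one (f := fnl b w) (v := w) (hb.2 w))
  rw [LinearEquiv.coe_det] at h
  exact h

theorem tv_isom {b : Cl K V} (hb : b.IsSp) (w v u : V) : b.B (tv hb w v) (tv hb w u) = b.B v u := by
  rw [tv_apply, tv_apply, b.add_left, b.add_right, b.add_right, b.smul_left, b.smul_left, B_smul_right hb,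
    B_smul_right hb, hb.2, B_anti hb u w]
  ring

/-- a totally isotropic subspace of a block, invariant under the stabilizer of the block, is zero -/
theorem ti_block {b : Cl K V} {G : Subgroup (Equiv.Perm V)} (hG : G ≤ Sim b)
    (hTI : ∀ W : Submodule K V, b.TI W → (∀ g ∈ G, ∀ w ∈ W, g w ∈ W) → W = ⊥)
    {U : ι → Submodule K V} (h : Blk b U) (hp : ∀ g ∈ G, ∃ π, Pm U g π) (i : ι) (W : Submodule K V) (hWU : W ≤ U i)
    (hW : b.TI W) (hst : ∀ g ∈ G ⊓ StabS (U i), ∀ w ∈ W, g w ∈ W) : W = ⊥ := by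
  classical
  let N : Submodule K V := Submodule.span K {x | ∃ g ∈ G, ∃ w ∈ W, x = g w}
  have hN : N = ⊥ := by
    apply hTI
    · have hgen : ∀ x ∈ {x | ∃ g ∈ G, ∃ w ∈ W, x = g w}, ∀ y ∈ {x | ∃ g ∈ G, ∃ w ∈ W, x = g w}, b.B x y = 0 := by
        rintro _ ⟨g, hg, w, hw, rfl⟩ _ ⟨k, hk, w', hw', rfl⟩
        obtain ⟨π, hπ⟩ := hp g hg
        obtain ⟨ρ, hρ⟩ := hp k hk
        by_cases hne : π i = ρ i
        · have hm : k⁻¹ * g ∈ G ⊓ StabS (U i) := by
            refine Subgroup.mem_inf.2 ⟨G.mul_mem (G.inv_mem hk) hg, fun v => ?_⟩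
            rw [← hπ i v, hne, ← hρ i ((k⁻¹ * g) v)]
            have : k ((k⁻¹ * g) v) = g v := by simp
            rw [this]
          obtain ⟨σ, μ, hs⟩ := hG hk
          have h1 := hs.form ((k⁻¹ * g) w) w'
          have h2 : k ((k⁻¹ * g) w) = g w := by simp
          rw [h2, hW _ (hst _ hm w hw) _ hw', map_zero, mul_zero] at h1
          exact h1
        · exact h.ort _ _ hne _ ((hπ i w).2 (hWU hw)) _ ((hρ i w').2 (hWU hw'))
      intro v hv w hw
      induction hv using Submodule.span_induction with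
      | mem x hx =>
        induction hw using Submodule.span_induction with
        | mem y hy => exact hgen x hx y hy
        | zero => exact B_zero_right b x
        | add y z _ _ hy hz => rw [b.add_right, hy, hz, add_zero]
        | smul a y _ hy => rw [b.smul_right, hy, mul_zero]
      | zero => exact B_zero_left b w
      | add x y _ _ hx hy => rw [b.add_left, hx, hy, add_zero]
      | smul a x _ hx => rw [b.smul_left, hx, mul_zero]
    · intro k hk x hx
      obtain ⟨σ, μ, hs⟩ := hG hk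
      induction hx using Submodule.span_induction with
      | mem x hx =>
        obtain ⟨g, hg, w, hw, rfl⟩ := hx
        exact Submodule.subset_span ⟨k * g, mul_mem hk hg, w, hw, rfl⟩
      | zero => rw [hs.map_zero]; exact N.zero_mem
      | add x y _ _ hx hy => rw [hs.add]; exact N.add_mem hx hy
      | smul a x _ hx => rw [hs.smul]; exact N.smul_mem _ hx
  rw [eq_bot_iff]
  intro w hw
  have : w ∈ N := Submodule.subset_span ⟨1, one_mem _, w, hw, rfl⟩
  rwa [hN] at this

theorem Blk.exists_ind {b : Cl K V} (hb : b.IsSp) {U : ι → Submodule K V} (h : Blk b U) {i : ι} (hU : U i ≠ ⊥) :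
    ∃ x ∈ U i, ∃ y ∈ U i, Ind K x y := by
  obtain ⟨v, hv, hv0⟩ := Submodule.exists_mem_ne_zero_of_ne_bot hU
  obtain ⟨u, hu, hu1⟩ := h.exists_one hb hv hv0
  refine ⟨u, hu, v, hv, fun s t hst => ?_⟩
  have e := congrArg (fun z => b.B z v) hst
  change b.B (s • u + t • v) v = b.B 0 v at e
  rw [b.add_left, b.smul_left, b.smul_left, hu1, hb.2, mul_one, mul_zero, add_zero, B_zero_left] at e
  subst e
  rw [zero_smul, zero_add] at hst
  exact ⟨rfl, (smul_eq_zero.1 hst).resolve_right hv0⟩

/-- from the base to the whole block -/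
theorem smul_of_base {G : Subgroup (Equiv.Perm V)} (hhm : ∀ a, hm K V a ∈ G) {U : Submodule K V}
    {β : Fin 3 → V} (hβ : ∀ g ∈ G ⊓ StabS U, (∀ j, g (β j) = β j) → ∀ v ∈ U, g v = v)
    {g : Equiv.Perm V} (hg : g ∈ G ⊓ StabS U) {c : K} (hc : c ≠ 0) (hgβ : ∀ j, g (β j) = c • β j) :
    ∀ v ∈ U, g v = c • v := by
  intro v hv
  have h1 : (hm K V (Units.mk0 c hc))⁻¹ * g ∈ G ⊓ StabS U :=
    mul_mem (inv_mem ⟨hhm _, hm_mem_StabS U _⟩) hg
  have h2 := hβ _ h1 (fun j => by
    rw [Equiv.Perm.mul_apply, hgβ j, Equiv.Perm.inv_eq_iff_eq]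
    rfl) v hv
  rw [Equiv.Perm.mul_apply, Equiv.Perm.inv_eq_iff_eq] at h2
  exact h2

/-- **The main argument.** -/
theorem core [Finite K] [Module.Finite K V] [Fintype ι] [Nontrivial ι] {b : Cl K V} (hb : b.IsSp)
    {G : Subgroup (Equiv.Perm V)} (hG : G ≤ Sim b) (hhm : ∀ a, hm K V a ∈ G) (hsol : Group.IsSolvable G)
    (hTI : ∀ W : Submodule K V, b.TI W → (∀ g ∈ G, ∀ w ∈ W, g w ∈ W) → W = ⊥)
    {U : ι → Submodule K V} (h : Blk b U) (hU : ∀ i, U i ≠ ⊥) (hp : ∀ g ∈ G, ∃ π, Pm U g π)
    (κ : ι → Fin 5) (hκ : ∀ g ∈ G, ∀ π, Pm U g π → (∀ i, κ (π i) = κ i) → π = 1) : FiveBV b G := by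
  classical
  obtain ⟨i0⟩ : Nonempty ι := inferInstance
  -- the bases
  have hbase : ∀ i, ∃ β : Fin 3 → V, (∀ j, β j ∈ U i) ∧
      ∀ g ∈ G ⊓ StabS (U i), (∀ j, g (β j) = β j) → ∀ v ∈ U i, g v = v := by
    intro i
    refine exists_base3 (inf_le_left.trans hG) (fun a => ⟨hhm a, hm_mem_StabS _ a⟩) ?_ ?_ ?_
    · exact Group.isSolvable_of_isSolvable_injective (f := inclusion (inf_le_left : G ⊓ StabS (U i) ≤ G))
        (inclusion_injective _)
    · intro g hg v hv
      exact (hg.2 v).2 hv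
    · intro W hWU hW hst
      exact ti_block hG hTI h hp i W hWU hW hst
  choose β hβU hβ using hbase
  -- the quadruples
  obtain ⟨w0, hw0, hw0t, hw0r⟩ := quad_special (h.exists_ind hb (hU i0)) (hβU i0)
  choose w1 hw1 hw1t hw1s using fun i => quad_type (h.exists_ind hb (hU i)) (hβU i) (κ i).castSucc
  let w : ι → Fin 4 → V := fun i => if i = i0 then w0 else w1 i
  have hwi0 : w i0 = w0 := if_pos rfl
  have hwi : ∀ i, i ≠ i0 → w i = w1 i := fun i hi => if_neg hi
  have hwU : ∀ i l, w i l ∈ U i ∧ w i l ≠ 0 := by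
    intro i l
    by_cases hi : i = i0
    · subst hi
      rw [hwi0]
      exact hw0 l
    · rw [hwi i hi]
      exact hw1 i l
  refine ⟨fun l => tv hb (∑ i, w i l), fun l => det_tv hb _, fun l v u => tv_isom hb _ v u, fun g hg hgi => ?_⟩
  obtain ⟨σ, μ, hs⟩ := hG hg
  obtain ⟨π, hπ⟩ := hp g hg
  have hc : ∀ l, ∃ c : ι → K, (∀ i, g (w i l) = c i • w (π i) l) ∧ ∀ i j, i ≠ j → c i * c j = μ := by
    intro l
    obtain ⟨σ', μ', hs'⟩ := hG (hgi l)
    obtain ⟨π', hπ'⟩ := hp _ (hgi l)
    refine trv_lemma hb h hs hs' hπ hπ' (w := fun i => w i l) (fun i => (hwU i l).1) (fun i => (hwU i l).2) ?_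
    intro v
    have h1 : ((tv hb (∑ i, w i l)).toEquiv : Equiv.Perm V)⁻¹ (v + b.B v (∑ i, w i l) • ∑ i, w i l) = v := by
      rw [Equiv.Perm.inv_eq_iff_eq]
      rfl
    rw [Equiv.Perm.mul_apply, Equiv.Perm.mul_apply, h1]
    rfl
  choose c hc1 hc2 using hc
  have hc0 : ∀ l i, c l i ≠ 0 := by
    intro l i h0
    apply (hwU i l).2
    apply g.injective
    rw [hc1, h0, zero_smul, hs.map_zero]
  -- the types
  have htyp : ∀ i s, typ K (w i) s ↔ typ K (w (π i)) s := fun i s =>
    typ_congr hs.smul (c := fun l => c l i) (fun l => hc0 l i) (fun l => hc1 l i) s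
  have hπi0 : π i0 = i0 := by
    obtain ⟨i, hi⟩ := π.surjective i0
    by_cases hii : i = i0
    · rwa [hii] at hi
    · exfalso
      apply hw0t (κ i)
      intro s
      rw [← hwi0, ← hi, ← htyp i s, hwi i hii]
      exact hw1t i s
  have hπ1 : π = 1 := by
    refine hκ g hg π hπ fun i => ?_
    by_cases hii : i = i0
    · rw [hii, hπi0]
    · have hii' : π i ≠ i0 := fun hh => hii (π.injective (hh.trans hπi0.symm))
      have e1 := (htyp i (κ i).castSucc).1 (by rw [hwi i hii]; exact (hw1t i _).2 rfl)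
      rw [hwi _ hii', hw1t] at e1
      exact (Fin.castSucc_injective _ e1).symm
  subst hπ1
  -- on the block `i0`
  have hgst : ∀ i, g ∈ G ⊓ StabS (U i) := fun i => ⟨hg, fun v => hπ i v⟩
  obtain ⟨c0, hc00, hc0β⟩ := hw0r g σ hs.add hs.smul (fun l => c l i0) (fun l => by
    have := hc1 l i0
    rwa [Equiv.Perm.one_apply, hwi0] at this)
  have hgi0 : ∀ v ∈ U i0, g v = c0 • v := smul_of_base hhm (hβ i0) (hgst i0) hc00 hc0β
  obtain ⟨v, hv, hv0⟩ := Submodule.exists_mem_ne_zero_of_ne_bot (hU i0)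
  obtain ⟨u, hu, hu1⟩ := h.exists_one hb hv hv0
  have hσ : ∀ a, σ a = a := by
    intro a
    have e1 := hs.smul a v
    rw [hgi0 _ ((U i0).smul_mem a hv), hgi0 _ hv, smul_smul, smul_smul] at e1
    have e2 := smul_left_injective K hv0 e1
    rw [mul_comm] at e2
    exact (mul_right_cancel₀ hc00 e2).symm
  have hμ : μ = c0 * c0 := by
    have e1 := hs.form u v
    rw [hgi0 _ hu, hgi0 _ hv, b.smul_left, B_smul_right hb, hu1, map_one, mul_one, mul_one] at e1
    exact e1.symm
  have hci0 : ∀ l, c l i0 = c0 := by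
    intro l
    have e1 := hc1 l i0
    rw [hgi0 _ (hwU i0 l).1, Equiv.Perm.one_apply] at e1
    exact (smul_left_injective K (hwU i0 l).2 e1).symm
  have hgU : ∀ i, ∀ v ∈ U i, g v = c0 • v := by
    intro i
    by_cases hii : i = i0
    · rw [hii]
      exact hgi0
    · have hci : ∀ l, c l i = c0 := by
        intro l
        have e1 := hc2 l i i0 hii
        rw [hci0, hμ] at e1
        exact mul_right_cancel₀ hc00 e1
      refine smul_of_base hhm (hβ i) (hgst i) hc00 fun j => ?_
      have hj := hw1s i j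
      generalize β i j = z at hj ⊢
      induction hj using Submodule.span_induction with
      | mem x hx =>
        obtain ⟨l, rfl⟩ := hx
        have e1 := hc1 l i
        rw [Equiv.Perm.one_apply, hci, hwi i hii] at e1
        exact e1
      | zero => rw [hs.map_zero, smul_zero]
      | add x y _ _ hx hy => rw [hs.add, hx, hy, smul_add]
      | smul a x _ hx => rw [hs.smul, hx, hσ, smul_comm]
  refine ⟨Units.mk0 c0 hc00, ?_⟩
  ext z
  rw [hm_apply, Units.val_mk0]
  have hz : z ∈ ⨆ i, U i := by rw [h.top]; trivial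
  induction hz using Submodule.iSup_induction' with
  | mem i x hx => exact hgU i x hx
  | zero => rw [hs.map_zero, smul_zero]
  | add x y _ _ hx hy => rw [hs.add, hx, hy, smul_add]

end Cfsg.Agent.H57.FC
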