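import Cfsg.Agent.H57.FC.Core
import Cfsg.Agent.H412.FC.BBridge
import Cfsg.Agent.H786.FC.Parts
import Cfsg.Agent.H578.PermCol

/-!
# S5764, symplectic C1 / C2 (helper57)

`stmtBC1S : StmtBC1K false`, `stmtBC2S : StmtBPar → StmtBC2On false (fun _ => True)`.
-/

set_option autoImplicit false

namespace Cfsg.Agent.H57.FC

open Subgroup Cfsg.Agent.H198.FC Cfsg.Agent.H412.FC
open scoped Pointwise

universe u v w

section

variable {K : Type u} [Field K] {V : Type v} [AddCommGroup V] [Module K V] {ι : Type w}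

theorem perm_inv_self (π : Equiv.Perm ι) (i : ι) : π⁻¹ (π i) = i := by simp

theorem perm_self_inv (π : Equiv.Perm ι) (i : ι) : π (π⁻¹ i) = i := by simp

theorem Pm.unique {b : Cl K V} {G : Subgroup (Equiv.Perm V)} (hG : G ≤ Sim b) {U : ι → Submodule K V} (h : Blk b U)
    (hU : ∀ i, U i ≠ ⊥) {g : Equiv.Perm V} (hg : g ∈ G) {π ρ : Equiv.Perm ι} (hπ : Pm U g π) (hρ : Pm U g ρ) :
    π = ρ := by
  ext i
  by_contra hne
  obtain ⟨v, hv, hv0⟩ := Submodule.exists_mem_ne_zero_of_ne_bot (hU i)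
  obtain ⟨σ, μ, hs⟩ := hG hg
  apply hv0
  apply g.injective
  rw [hs.map_zero]
  exact h.nondeg ((hπ i v).2 hv) fun u hu => h.ort _ _ (Ne.symm hne) _ ((hρ i v).2 hv) u hu

theorem Pm.mul {U : ι → Submodule K V} {g k : Equiv.Perm V} {π ρ : Equiv.Perm ι} (hπ : Pm U g π) (hρ : Pm U k ρ) :
    Pm U (g * k) (π * ρ) := by
  intro i v
  rw [Equiv.Perm.mul_apply, Equiv.Perm.mul_apply, hπ, hρ]

theorem Pm.one (U : ι → Submodule K V) : Pm U 1 1 := fun _ _ => Iff.rfl

theorem Pm.inv {U : ι → Submodule K V} {g : Equiv.Perm V} {π : Equiv.Perm ι} (hπ : Pm U g π) : Pm U g⁻¹ π⁻¹ := by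
  intro i v
  have h := hπ (π⁻¹ i) (g⁻¹ v)
  have e1 : g (g⁻¹ v) = v := by simp
  have e2 : π (π⁻¹ i) = i := by simp
  rw [e1, e2] at h
  exact h.symm

/-- **C1 in the semilinear language** -/
theorem c1V [Finite K] [Module.Finite K V] {b : Cl K V} (hb : b.IsSp)
    {G : Subgroup (Equiv.Perm V)} (hG : G ≤ Sim b) (hhm : ∀ a, hm K V a ∈ G) (hsol : Group.IsSolvable G)
    (hTI : ∀ W : Submodule K V, b.TI W → (∀ g ∈ G, ∀ w ∈ W, g w ∈ W) → W = ⊥)
    {W : Submodule K V} (hW0 : W ≠ ⊥) (hW1 : W ≠ ⊤) (hND : b.ND W) (hst : ∀ g ∈ G, ∀ w ∈ W, g w ∈ W) :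
    FiveBV b G := by
  classical
  have hfin : Finite V := Module.finite_of_finite K
  have hND' : ∀ z ∈ W, z ∈ perp b W → z = 0 := fun z hz hz' => hND z hz fun w hw => cl_symm b (hz' w hw)
  have hst' : ∀ g ∈ G, ∀ w ∈ perp b W, g w ∈ perp b W := by
    intro g hg v hv z hz
    obtain ⟨σ, μ, hs⟩ := hG hg
    have h1 := hs.form (g⁻¹ z) v
    have h2 : g (g⁻¹ z) = z := by simp
    rw [h2, hv _ (hst _ (G.inv_mem hg) _ hz), map_zero, mul_zero] at h1
    exact h1
  let U : Bool → Submodule K V := fun i => cond i W (perp b W)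
  have hblk : Blk b U := by
    constructor
    · intro i j hij v hv w hw
      cases i <;> cases j
      · exact absurd rfl hij
      · exact cl_symm b (hv w hw)
      · exact hw v hv
      · exact absurd rfl hij
    · rw [eq_top_iff]
      intro v _
      obtain ⟨z, hz, hvz⟩ := exists_proj b hND' v
      have e : v = z + (v - z) := by simp
      rw [e]
      exact Submodule.add_mem _ (Submodule.mem_iSup_of_mem true hz) (Submodule.mem_iSup_of_mem false hvz)
  have hU : ∀ i, U i ≠ ⊥ := by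
    intro i
    cases i
    · intro h0
      apply hW1
      rw [eq_top_iff]
      intro v _
      obtain ⟨z, hz, hvz⟩ := exists_proj b hND' v
      have h1 : v - z ∈ U false := hvz
      rw [h0, Submodule.mem_bot, sub_eq_zero] at h1
      rw [h1]
      exact hz
    · exact hW0
  have hpm : ∀ g ∈ G, Pm U g 1 := by
    intro g hg i v
    cases i
    · exact mem_StabS_of_le (hst' g hg) v
    · exact mem_StabS_of_le (hst g hg) v
  exact core hb hG hhm hsol hTI hblk hU (fun g hg => ⟨1, hpm g hg⟩) (fun _ => 0)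
    fun g hg π hπ _ => Pm.unique hG hblk hU hg hπ (hpm g hg)

/-- an invariant orthogonal decomposition -/
structure Sys (b : Cl K V) (G : Subgroup (Equiv.Perm V)) (U : ι → Submodule K V) : Prop where
  blk : Blk b U
  ne : ∀ i, U i ≠ ⊥
  pm : ∀ g ∈ G, ∃ π, Pm U g π

/-- coarsening -/
theorem Sys.quot {b : Cl K V} {G : Subgroup (Equiv.Perm V)} (hG : G ≤ Sim b) {U : ι → Submodule K V} (h : Sys b G U)
    (r : Setoid ι) (hr : ∀ g ∈ G, ∀ π, Pm U g π → ∀ i j, r i j → r (π i) (π j)) :
    Sys b G (fun q : Quotient r => ⨆ i : {i : ι // (Quotient.mk r i) = q}, U i) := by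
  classical
  set U' : Quotient r → Submodule K V := fun q => ⨆ i : {i : ι // (Quotient.mk r i) = q}, U i with hU'
  have hle : ∀ i, U i ≤ U' (Quotient.mk r i) := fun i =>
    le_iSup (fun j : {j : ι // (Quotient.mk r j) = Quotient.mk r i} => U j) ⟨i, rfl⟩
  have hr' : ∀ g ∈ G, ∀ π, Pm U g π → ∀ i j, r i j ↔ r (π i) (π j) := by
    intro g hg π hπ i j
    refine ⟨hr g hg π hπ i j, fun h1 => ?_⟩
    have := hr g⁻¹ (G.inv_mem hg) π⁻¹ hπ.inv _ _ h1
    rwa [perm_inv_self, perm_inv_self] at this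
  refine ⟨⟨fun q q' hqq v hv w hw => ?_, ?_⟩, fun q => ?_, fun g hg => ?_⟩
  · change v ∈ ⨆ i : {i : ι // (Quotient.mk r i) = q}, U i at hv
    change w ∈ ⨆ i : {i : ι // (Quotient.mk r i) = q'}, U i at hw
    induction hv using Submodule.iSup_induction' with
    | mem i x hx =>
      induction hw using Submodule.iSup_induction' with
      | mem j y hy =>
        refine h.blk.ort i j (fun hij => hqq ?_) x hx y hy
        rw [← i.2, ← j.2, hij]
      | zero => exact B_zero_right b x
      | add y z _ _ hy hz => rw [b.add_right, hy, hz, add_zero]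
    | zero => exact B_zero_left b w
    | add x y _ _ hx hy => rw [b.add_left, hx, hy, add_zero]
  · rw [eq_top_iff, ← h.blk.top]
    exact iSup_le fun i => (hle i).trans (le_iSup U' _)
  · obtain ⟨i, rfl⟩ := Quotient.exists_rep q
    intro h0
    apply h.ne i
    rw [eq_bot_iff, ← h0]
    exact hle i
  · obtain ⟨π, hπ⟩ := h.pm g hg
    -- forward
    have key : ∀ g ∈ G, ∀ π, Pm U g π → ∀ q q' : Quotient r, (∀ i, Quotient.mk r i = q → Quotient.mk r (π i) = q') →
        ∀ v ∈ U' q, g v ∈ U' q' := by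
      intro g hg π hπ q q' hq v hv
      obtain ⟨σ, μ, hs⟩ := hG hg
      change v ∈ ⨆ i : {i : ι // (Quotient.mk r i) = q}, U i at hv
      induction hv using Submodule.iSup_induction' with
      | mem i x hx =>
        rw [← hq i i.2]
        exact hle _ ((hπ i x).2 hx)
      | zero => rw [hs.map_zero]; exact Submodule.zero_mem _
      | add x y _ _ hx hy => rw [hs.add]; exact Submodule.add_mem _ hx hy
    refine ⟨Quotient.congr π (hr' g hg π hπ), fun q v => ⟨fun hv => ?_, fun hv => ?_⟩⟩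
    · have h1 := key g⁻¹ (G.inv_mem hg) π⁻¹ hπ.inv _ q (fun i hi => by
        obtain ⟨j, rfl⟩ := Quotient.exists_rep q
        rw [Quotient.congr_mk] at hi
        apply Quotient.sound
        have h2 : r i (π j) := Quotient.exact hi
        have h3 := (hr' g hg π hπ (π⁻¹ i) j).2 (by rwa [perm_self_inv])
        exact h3) _ hv
      rwa [perm_inv_self] at h1
    · refine key g hg π hπ q _ (fun i hi => ?_) v hv
      rw [← hi, Quotient.congr_mk]

/-- **C2 in the semilinear language** -/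
theorem c2V [Finite K] [Module.Finite K V] {b : Cl K V} (hb : b.IsSp)
    {G : Subgroup (Equiv.Perm V)} (hG : G ≤ Sim b) (hhm : ∀ a, hm K V a ∈ G) (hsol : Group.IsSolvable G)
    (hTI : ∀ W : Submodule K V, b.TI W → (∀ g ∈ G, ∀ w ∈ W, g w ∈ W) → W = ⊥)
    {κ : Type} [Fintype κ] (hκ : 2 ≤ Fintype.card κ) {W : κ → Submodule K V} (hS : Sys b G W) : FiveBV b G := by
  classical
  have hfin : Finite V := Module.finite_of_finite K
  -- the minimal system
  have hex : ∃ n, ∃ (ι : Type) (_ : Fintype ι) (U : ι → Submodule K V), Fintype.card ι = n ∧ 2 ≤ n ∧ Sys b G U :=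
    ⟨_, κ, _, W, rfl, hκ, hS⟩
  obtain ⟨ι, _, U, hcard, h2, hU⟩ := Nat.find_spec hex
  have hmin : ∀ (ι' : Type) [Fintype ι'] (U' : ι' → Submodule K V), 2 ≤ Fintype.card ι' → Sys b G U' →
      Fintype.card ι ≤ Fintype.card ι' := by
    intro ι' _ U' h2' hU'
    rw [hcard]
    exact Nat.find_min' hex ⟨ι', _, U', rfl, h2', hU'⟩
  rw [← hcard] at h2
  clear hcard
  have hnt : Nontrivial ι := Fintype.one_lt_card_iff_nontrivial.1 h2
  -- the action
  choose! ψ hψ using hU.pm
  have huniq : ∀ g ∈ G, ∀ π, Pm U g π → π = ψ g := fun g hg π hπ => hπ.unique hG hU.blk hU.ne hg (hψ g hg)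
  let act : MulAction G ι :=
    { smul := fun g i => ψ g i
      one_smul := fun i => by
        change ψ (1 : Equiv.Perm V) i = i
        rw [← huniq _ (one_mem G) 1 (Pm.one U)]
        rfl
      mul_smul := fun g k i => by
        change ψ ((g : Equiv.Perm V) * k) i = ψ g (ψ k i)
        rw [← huniq _ (G.mul_mem g.2 k.2) (ψ g * ψ k) ((hψ g g.2).mul (hψ k k.2))]
        rfl }
  have hsm : ∀ (g : G) (i : ι), g • i = ψ g i := fun _ _ => rfl
  -- invariant equivalence relations
  have htriv : ∀ r : Setoid ι, (∀ (g : G) (i j : ι), r i j → r (g • i) (g • j)) →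
      (∃ i j, i ≠ j ∧ r i j) → ∀ i j, r i j := by
    intro r hr ⟨i, j, hij, hrij⟩
    by_contra hcon
    push Not at hcon
    obtain ⟨x, y, hxy⟩ := hcon
    have h3 := hU.quot hG r (fun g hg π hπ i j hij => by
      rw [huniq g hg π hπ]
      exact hr ⟨g, hg⟩ i j hij)
    have h4 : 2 ≤ Fintype.card (Quotient r) := by
      have : Nontrivial (Quotient r) := ⟨⟨Quotient.mk r x, Quotient.mk r y, fun h => hxy (Quotient.exact h)⟩⟩
      exact Fintype.one_lt_card
    have h5 := hmin _ _ h4 h3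
    have h6 : Fintype.card (Quotient r) < Fintype.card ι := by
      refine Fintype.card_lt_of_surjective_not_injective (Quotient.mk r) Quotient.exists_rep fun hinj => ?_
      exact hij (hinj (Quotient.sound hrij))
    omega
  by_cases hfix : ∀ (g : G) (i : ι), g • i = i
  · refine core hb hG hhm hsol hTI hU.blk hU.ne hU.pm (fun _ => 0) fun g hg π hπ _ => ?_
    rw [huniq g hg π hπ]
    ext i
    exact hfix ⟨g, hg⟩ i
  · push Not at hfix
    obtain ⟨g0, i0, hg0⟩ := hfix
    have htrans : MulAction.IsPretransitive G ι := by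
      refine ⟨fun x y => ?_⟩
      have := htriv (MulAction.orbitRel G ι) (fun g i j hij => by
        rw [MulAction.orbitRel_apply] at hij ⊢
        obtain ⟨k, rfl⟩ := hij
        exact ⟨g * k * g⁻¹, by simp [mul_smul]⟩) ⟨_, _, hg0, ⟨g0, rfl⟩⟩ y x
      rw [MulAction.orbitRel_apply] at this
      exact this
    have hprim : MulAction.IsPreprimitive G ι := by
      refine ⟨fun {B} hB => ?_⟩
      by_cases hsub : B.Subsingleton
      · exact Or.inl hsub
      · right
        rw [Set.not_subsingleton_iff] at hsub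
        obtain ⟨x, hx, y, hy, hxy⟩ := hsub
        have hBe := MulAction.IsBlock.smul_eq_smul_of_nonempty hB
        let r : Setoid ι :=
          { r := fun i j => ∃ g : G, i ∈ g • B ∧ j ∈ g • B
            iseqv :=
              { refl := fun i => by
                  obtain ⟨g, hg⟩ := MulAction.exists_smul_eq G x i
                  exact ⟨g, ⟨x, hx, hg⟩, ⟨x, hx, hg⟩⟩
                symm := fun ⟨g, h1, h2⟩ => ⟨g, h2, h1⟩
                trans := fun {i j k} ⟨g, h1, h2⟩ ⟨g', h3, h4⟩ => by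
                  have := hBe ⟨j, h2, h3⟩
                  exact ⟨g', this ▸ h1, h4⟩ } }
        have hall := htriv r (fun g i j ⟨k, h1, h2⟩ => ⟨g * k, by
            rw [mul_smul]
            exact ⟨Set.smul_mem_smul_set h1, Set.smul_mem_smul_set h2⟩⟩)
          ⟨x, y, hxy, 1, by rw [one_smul]; exact ⟨hx, hy⟩⟩
        rw [Set.eq_univ_iff_forall]
        intro z
        obtain ⟨g, h1, h2⟩ := hall x z
        have h3 : g • B = (1 : G) • B := hBe ⟨x, h1, by rw [one_smul]; exact hx⟩
        rw [h3, one_smul] at h2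
        exact h2
    obtain ⟨col, hcol⟩ := Cfsg.Agent.H578.PermCol.prim5 hprim
    refine core hb hG hhm hsol hTI hU.blk hU.ne hU.pm col fun g hg π hπ h1 => ?_
    rw [huniq g hg π hπ] at h1 ⊢
    ext i
    exact hcol ⟨g, hg⟩ (fun ω => h1 ω) i

end

open Cfsg.Agent.H786.FC (StmtBC1K StmtBC2On)
open Cfsg.Agent.H200.FC (Ph Ph_apply' up mem_up up_le up_solv)

/-- **B-C1S** -/
theorem stmtBC1S : StmtBC1K.{u, v} false := by
  intro K _ _ V _ _ _ b hk hbig S hS hsol hTI hW
  obtain ⟨W, hW0, hW1, hND, hst⟩ := hW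
  have hfin : Finite V := Module.finite_of_finite K
  obtain ⟨v, hv, hv0⟩ := Submodule.exists_mem_ne_zero_of_ne_bot hW0
  have hnt : Nontrivial V := ⟨⟨v, 0, hv0⟩⟩
  refine fiveB_of_up hS (c1V (hk.2 rfl) (up_le_Sim hS) (hm_mem_up S) (up_solv S hsol) (fun W' hW' hg => ?_) hW0 hW1 hND
    fun g hg w hw => up_stable hst hg hw)
  exact hTI W' hW' (stb_of_up hS fun g hg' => mem_StabS_of_le (hg g hg'))

/-- **B-C2S** -/
theorem stmtBC2S (hP : StmtBPar.{u, v}) : StmtBC2On.{u, v} false (fun _ => True) := by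
  intro K _ _ V _ _ _ b hk hbig S hS hsol k d e _ hk2 hd he hadj hr hp
  by_cases hTI : ∀ W : Submodule K V, b.TI W → (∀ f ∈ S, Stb f W) → W = ⊥
  · have hfin : Finite V := Module.finite_of_finite K
    have hne : ∀ i, LinearMap.range (e i) ≠ ⊥ := by
      intro i h0
      have := hr i
      rw [h0, finrank_bot] at this
      omega
    have hnt : Nontrivial V := by
      obtain ⟨v, hv, hv0⟩ := Submodule.exists_mem_ne_zero_of_ne_bot (hne ⟨0, by omega⟩)
      exact ⟨⟨v, 0, hv0⟩⟩
    have hmem : ∀ i v, v ∈ LinearMap.range (e i) ↔ e i v = v := by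
      intro i v
      constructor
      · rintro ⟨w, rfl⟩
        rw [← Module.End.mul_apply, (he.idem i).eq]
      · intro h
        exact ⟨v, h⟩
    refine fiveB_of_up hS (c2V (hk.2 rfl) (up_le_Sim hS) (hm_mem_up S) (up_solv S hsol) (fun W' hW' hg => ?_)
      (κ := Fin k) (by rw [Fintype.card_fin]; exact hk2) (W := fun i => LinearMap.range (e i)) ?_)
    · exact hTI W' hW' (stb_of_up hS fun g hg' => mem_StabS_of_le (hg g hg'))
    refine ⟨⟨fun i j hij v hv w hw => ?_, ?_⟩, hne, fun g hg => ?_⟩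
    · obtain ⟨v', rfl⟩ := hv
      obtain ⟨w', rfl⟩ := hw
      rw [hadj i, ← Module.End.mul_apply, he.ortho hij, LinearMap.zero_apply]
      exact B_zero_right b v'
    · rw [eq_top_iff]
      intro v _
      have h1 : v = ∑ i, e i v := by
        have := LinearMap.congr_fun he.complete v
        rw [LinearMap.sum_apply] at this
        exact this.symm
      rw [h1]
      exact Submodule.sum_mem _ fun i _ => Submodule.mem_iSup_of_mem i ⟨v, rfl⟩
    · have hg' := up_le S hg
      rw [mem_up hg'] at hg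
      obtain ⟨π, hπ⟩ := hp _ hg
      refine ⟨π, fun i v => ?_⟩
      rw [hmem, hmem, ← hπ i]
      have h1 := Ph_apply' ⟨g, hg'⟩ (e i) v
      change Ph K V ⟨g, hg'⟩ (e i) (g v) = g (e i v) at h1
      rw [h1]
      exact g.injective.eq_iff
  · push Not at hTI
    obtain ⟨W, h1, h2, h3⟩ := hTI
    exact hP K V b hbig S hS hsol ⟨W, h3, h1, h2⟩

end Cfsg.Agent.H57.FC
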