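import Cfsg.Agent.H412.FC.Lang

/-!
# S5764, symplectic C1 / C2: the transvection lemma (helper57)

`Blk b U`: `V` is the orthogonal sum of the subspaces `U i`; `Pm U g π`: `g` permutes the `U i` by `π`.
`trv_lemma`: if `g` and its conjugate by the transvection with centre `w = ∑ w i` (all `w i ≠ 0`) permute the blocks then
`g (w i) = c i • w (π i)` with `c i * c l = μ` for `i ≠ l`.
-/

set_option autoImplicit false

namespace Cfsg.Agent.H57.FC

open Subgroup Cfsg.Agent.H198.FC Cfsg.Agent.H412.FC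

universe u v w

variable {K : Type u} [Field K] {V : Type v} [AddCommGroup V] [Module K V] {ι : Type w}

/-! ### basic facts on symplectic forms -/

section form

variable {b : Cl K V} (hb : b.IsSp)

theorem B_zero_left (b : Cl K V) (w : V) : b.B 0 w = 0 := by
  have h := b.smul_left 0 (0 : V) w
  rwa [zero_smul, zero_mul] at h

theorem B_zero_right (b : Cl K V) (w : V) : b.B w 0 = 0 := by
  have h := b.smul_right 0 w (0 : V)
  rwa [zero_smul, map_zero, zero_mul] at h

theorem B_neg_left (b : Cl K V) (v w : V) : b.B (-v) w = -b.B v w := by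
  have h := b.smul_left (-1) v w
  rwa [neg_one_smul, neg_one_mul] at h

theorem B_neg_right (b : Cl K V) (v w : V) : b.B v (-w) = -b.B v w := by
  have h := b.smul_right (-1) v w
  rwa [neg_one_smul, map_neg, map_one, neg_one_mul] at h

theorem B_sub_left (b : Cl K V) (v v' w : V) : b.B (v - v') w = b.B v w - b.B v' w := by
  rw [sub_eq_add_neg, b.add_left, B_neg_left, ← sub_eq_add_neg]

theorem B_sub_right (b : Cl K V) (v w w' : V) : b.B v (w - w') = b.B v w - b.B v w' := by
  rw [sub_eq_add_neg, b.add_right, B_neg_right, ← sub_eq_add_neg]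

theorem B_sum_right (b : Cl K V) (v : V) (s : Finset ι) (f : ι → V) :
    b.B v (∑ i ∈ s, f i) = ∑ i ∈ s, b.B v (f i) := by
  classical
  induction s using Finset.induction_on with
  | empty => simpa using B_zero_right b v
  | insert a s ha ih => rw [Finset.sum_insert ha, Finset.sum_insert ha, b.add_right, ih]

include hb in
theorem B_smul_right (a : K) (v w : V) : b.B v (a • w) = a * b.B v w := by
  rw [b.smul_right, hb.1]

include hb in
theorem B_anti (v w : V) : b.B w v = -b.B v w := by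
  have h := hb.2 (v + w)
  rw [b.add_left, b.add_right, b.add_right, hb.2, hb.2, zero_add, add_zero] at h
  exact (neg_eq_of_add_eq_zero_right h).symm

include hb in
theorem B_zero_symm {v w : V} (h : b.B v w = 0) : b.B w v = 0 := by
  rw [B_anti hb, h, neg_zero]

end form

/-! ### blocks -/

/-- `V` is the orthogonal sum of the subspaces `U i` -/
structure Blk (b : Cl K V) (U : ι → Submodule K V) : Prop where
  ort : ∀ i j, i ≠ j → ∀ v ∈ U i, ∀ w ∈ U j, b.B v w = 0
  top : ⨆ i, U i = ⊤

/-- `g` permutes the `U i` by `π` -/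
def Pm (U : ι → Submodule K V) (g : Equiv.Perm V) (π : Equiv.Perm ι) : Prop := ∀ i v, g v ∈ U (π i) ↔ v ∈ U i

theorem Blk.nondeg {b : Cl K V} {U : ι → Submodule K V} (h : Blk b U) {i : ι} {v : V} (hv : v ∈ U i)
    (h0 : ∀ u ∈ U i, b.B v u = 0) : v = 0 := by
  classical
  apply b.nondeg
  intro w
  have hw : w ∈ ⨆ i, U i := by rw [h.top]; trivial
  induction hw using Submodule.iSup_induction' with
  | mem j x hx =>
    by_cases hj : i = j
    · subst hj
      exact h0 x hx
    · exact h.ort i j hj v hv x hx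
  | zero => exact B_zero_right b v
  | add x y _ _ hx hy => rw [b.add_right, hx, hy, add_zero]

theorem Blk.exists_one {b : Cl K V} (hb : b.IsSp) {U : ι → Submodule K V} (h : Blk b U) {i : ι} {v : V}
    (hv : v ∈ U i) (hv0 : v ≠ 0) : ∃ u ∈ U i, b.B u v = 1 := by
  by_contra hcon
  push Not at hcon
  apply hv0
  refine h.nondeg hv fun u hu => ?_
  by_contra hne
  have h1 : b.B u v ≠ 0 := fun h1 => hne (B_zero_symm hb h1)
  apply hcon ((b.B u v)⁻¹ • u) ((U i).smul_mem _ hu)
  rw [b.smul_left, inv_mul_cancel₀ h1]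

theorem Blk.B_sum [Fintype ι] {b : Cl K V} {U : ι → Submodule K V} (h : Blk b U) {w : ι → V}
    (hw : ∀ i, w i ∈ U i) {i : ι} {u : V} (hu : u ∈ U i) : b.B u (∑ j, w j) = b.B u (w i) := by
  classical
  rw [B_sum_right]
  refine Finset.sum_eq_single i (fun j _ hj => h.ort i j (Ne.symm hj) u hu (w j) (hw j)) fun hi => ?_
  exact absurd (Finset.mem_univ i) hi

/-- **The transvection lemma.** -/
theorem trv_lemma [Fintype ι] [Nontrivial ι] {b : Cl K V} (hb : b.IsSp) {U : ι → Submodule K V} (h : Blk b U)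
    {g g' : Equiv.Perm V} {σ σ' : K ≃+* K} {μ μ' : K} (hg : IsSim b g σ μ) (hg' : IsSim b g' σ' μ')
    {π π' : Equiv.Perm ι} (hπ : Pm U g π) (hπ' : Pm U g' π') {w : ι → V} (hw : ∀ i, w i ∈ U i)
    (hw0 : ∀ i, w i ≠ 0)
    (hx : ∀ v, g' (v + b.B v (∑ i, w i) • ∑ i, w i) = g v + b.B (g v) (∑ i, w i) • ∑ i, w i) :
    ∃ c : ι → K, (∀ i, g (w i) = c i • w (π i)) ∧ ∀ i l, i ≠ l → c i * c l = μ := by
  classical
  set W : V := ∑ i, w i with hW
  have hBW : ∀ {i : ι} {u : V}, u ∈ U i → b.B u W = b.B u (w i) := fun hu => h.B_sum hw hu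
  -- vectors perpendicular to `w i`
  have h1 : ∀ i v, v ∈ U i → b.B v (w i) = 0 → b.B (g v) (w (π i)) = 0 ∧ g' v = g v := by
    intro i v hv hv0
    have hgv : g v ∈ U (π i) := (hπ i v).2 hv
    have hgv' : g' v ∈ U (π' i) := (hπ' i v).2 hv
    have e1 : g' v = g v + b.B (g v) (w (π i)) • W := by
      have := hx v
      rw [hBW hv, hv0, zero_smul, add_zero, hBW hgv] at this
      exact this
    have h0 : b.B (g v) (w (π i)) = 0 := by
      by_cases hp : π' i = π i
      · obtain ⟨j, hj⟩ := exists_ne (π i)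
        obtain ⟨u, hu, hu1⟩ := h.exists_one hb (hw j) (hw0 j)
        have e2 := congrArg (b.B u) e1
        rw [b.add_right, h.ort j (π' i) (by rw [hp]; exact hj) u hu _ hgv', h.ort j (π i) hj u hu _ hgv,
          B_smul_right hb, hBW hu, hu1, mul_one, zero_add] at e2
        exact e2.symm
      · have e2 := congrArg (b.B (w (π i))) e1
        rw [b.add_right, h.ort (π i) (π' i) (Ne.symm hp) _ (hw _) _ hgv', B_smul_right hb, hBW (hw _),
          hb.2, mul_zero, add_zero] at e2
        exact B_zero_symm hb e2.symm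
    refine ⟨h0, ?_⟩
    rw [e1, h0, zero_smul, add_zero]
  have h2 : ∀ i, g' (w i) = g (w i) := fun i => (h1 i (w i) (hw i) (hb.2 _)).2
  choose v hv hv1 using fun i => h.exists_one hb (hw i) (hw0 i)
  -- `w (π i)` is a multiple of `g (w i)`
  have h3 : ∀ i, w (π i) = (b.B (g (v i)) (w (π i)) * μ⁻¹) • g (w i) := by
    intro i
    rw [← sub_eq_zero]
    have hgw : g (w i) ∈ U (π i) := (hπ i (w i)).2 (hw i)
    refine h.nondeg (Submodule.sub_mem _ (hw _) (Submodule.smul_mem _ _ hgw)) fun u hu => ?_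
    apply B_zero_symm hb
    obtain ⟨t, rfl⟩ := g.surjective u
    have ht : t ∈ U i := (hπ i t).1 hu
    have h4 := (h1 i (t - b.B t (w i) • v i) ((U i).sub_mem ht ((U i).smul_mem _ (hv i))) (by
      rw [B_sub_left, b.smul_left, hv1, mul_one, sub_self])).1
    rw [hg.map_sub, hg.smul, B_sub_left, b.smul_left, sub_eq_zero] at h4
    rw [B_sub_right, B_smul_right hb, hg.form, h4]
    field_simp [hg.ne]
    ring
  have hne : ∀ i, b.B (g (v i)) (w (π i)) ≠ 0 := by
    intro i h0
    apply hw0 (π i)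
    rw [h3 i, h0, zero_mul, zero_smul]
  have h4 : ∀ i, g (w i) = (μ * (b.B (g (v i)) (w (π i)))⁻¹) • w (π i) := by
    intro i
    have e := h3 i
    have e2 : (μ * (b.B (g (v i)) (w (π i)))⁻¹) • w (π i) =
        (μ * (b.B (g (v i)) (w (π i)))⁻¹) • ((b.B (g (v i)) (w (π i)) * μ⁻¹) • g (w i)) := by
      rw [← e]
    rw [e2, smul_smul]
    have e3 : μ * (b.B (g (v i)) (w (π i)))⁻¹ * (b.B (g (v i)) (w (π i)) * μ⁻¹) = 1 := by
      have := hne i
      have := hg.ne
      field_simp
    rw [e3, one_smul]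
  refine ⟨fun i => μ * (b.B (g (v i)) (w (π i)))⁻¹, h4, fun i l hil => ?_⟩
  -- the component at `π l`
  have h5 : (μ * (b.B (g (v l)) (w (π l)))⁻¹) = b.B (g (v i)) (w (π i)) := by
    have hgv : g (v i) ∈ U (π i) := (hπ i _).2 (hv i)
    obtain ⟨u, hu, hu1⟩ := h.exists_one hb (hw (π l)) (hw0 (π l))
    have hne' : π l ≠ π i := fun h => hil (π.injective h).symm
    have hπ'i : ∀ i, π' i = π i := by
      intro i
      by_contra hcon
      have a1 : g (w i) ∈ U (π i) := (hπ i _).2 (hw i)
      have a2 : g (w i) ∈ U (π' i) := by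
        rw [← h2]
        exact (hπ' i _).2 (hw i)
      have a3 : g (w i) = 0 := h.nondeg a1 fun u hu =>
        B_zero_symm hb (h.ort _ _ (Ne.symm hcon) u hu _ a2)
      apply hw0 i
      apply g.injective
      rw [a3, hg.map_zero]
    have hgv' : g' (v i) ∈ U (π i) := by
      rw [← hπ'i]
      exact (hπ' i _).2 (hv i)
    have e := hx (v i)
    rw [hBW (hv i), hv1, one_smul, hg'.add, hBW hgv] at e
    have e' := congrArg (b.B u) e
    rw [b.add_right, b.add_right, h.ort _ _ hne' u hu _ hgv', h.ort _ _ hne' u hu _ hgv, zero_add, zero_add,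
      B_smul_right hb, hBW hu, hu1, mul_one, hW, hg'.map_sum, B_sum_right] at e'
    rw [Finset.sum_eq_single l] at e'
    · rw [h2, h4 l, B_smul_right hb, hu1, mul_one] at e'
      exact e'
    · intro j _ hj
      rw [h2]
      exact h.ort (π l) (π j) (fun hh => hj (π.injective hh).symm) u hu _ ((hπ j _).2 (hw j))
    · intro hl
      exact absurd (Finset.mem_univ l) hl
  change μ * (b.B (g (v i)) (w (π i)))⁻¹ * (μ * (b.B (g (v l)) (w (π l)))⁻¹) = μ
  rw [h5, mul_assoc, inv_mul_cancel₀ (hne i), mul_one]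

end Cfsg.Agent.H57.FC
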